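import Mathlib
import Cfsg.Agent.Lib.Unitary.SU2

/-!
The structure of `PSU₃(2)`: it is `3² : Q₈`, solvable of order 72.
-/

set_option autoImplicit false

namespace CfsgLib.Unitary

open Cfsg Matrix CfsgLib.Classical
open scoped MatrixGroups

theorem su_coe_mul {F : Type*} [Field F] {q n : ℕ} (g h : SU n F q) :
    (((g * h : SU n F q) : SpecialLinearGroup (Fin n) F) : Matrix (Fin n) (Fin n) F) =
      ((g : SpecialLinearGroup (Fin n) F) : Matrix (Fin n) (Fin n) F) *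
      ((h : SpecialLinearGroup (Fin n) F) : Matrix (Fin n) (Fin n) F) := rfl

theorem su_coe_one {F : Type*} [Field F] {q n : ℕ} :
    (((1 : SU n F q) : SpecialLinearGroup (Fin n) F) : Matrix (Fin n) (Fin n) F) = 1 := rfl

/-- Equality in `PSU` means equality up to a scalar. -/
theorem psu_mk_eq_mk_iff {F : Type*} [Field F] [Fintype F] {q n : ℕ} (hF : Fintype.card F = q ^ 2)
    (hn : 2 ≤ n) (g h : SU n F q) :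
    (QuotientGroup.mk g : PSU n F q) = QuotientGroup.mk h ↔ ∃ c : F,
      ((h : SpecialLinearGroup (Fin n) F) : Matrix (Fin n) (Fin n) F) =
        c • ((g : SpecialLinearGroup (Fin n) F) : Matrix (Fin n) (Fin n) F) := by
  rw [QuotientGroup.eq, mem_center_SU_iff hF hn]
  refine exists_congr fun c => ?_
  have h1 : ((h : SpecialLinearGroup (Fin n) F) : Matrix (Fin n) (Fin n) F) =
      ((g : SpecialLinearGroup (Fin n) F) : Matrix (Fin n) (Fin n) F) *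
      (((g⁻¹ * h : SU n F q) : SpecialLinearGroup (Fin n) F) : Matrix (Fin n) (Fin n) F) := by
    rw [← su_coe_mul, mul_inv_cancel_left]
  constructor
  · intro h2
    rw [h1, h2, mul_smul_comm, mul_one]
  · intro h2
    rw [su_coe_mul, h2, mul_smul_comm, ← su_coe_mul, inv_mul_cancel, su_coe_one]

namespace SU32

/-- `3 × 3` matrices over the field with four elements. -/
abbrev M3 : Type := Matrix (Fin 3) (Fin 3) GF4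

/-- Powers of an element of order four. -/
def qa : Fin 4 → M3 :=
  ![!![⟨1, 0⟩, ⟨0, 0⟩, ⟨0, 0⟩; ⟨0, 0⟩, ⟨1, 0⟩, ⟨0, 0⟩; ⟨0, 0⟩, ⟨0, 0⟩, ⟨1, 0⟩],
    !![⟨0, 1⟩, ⟨1, 1⟩, ⟨1, 0⟩; ⟨1, 1⟩, ⟨0, 1⟩, ⟨1, 0⟩; ⟨1, 0⟩, ⟨1, 0⟩, ⟨1, 0⟩],
    !![⟨0, 0⟩, ⟨1, 0⟩, ⟨0, 0⟩; ⟨1, 0⟩, ⟨0, 0⟩, ⟨0, 0⟩; ⟨0, 0⟩, ⟨0, 0⟩, ⟨1, 0⟩],
    !![⟨1, 1⟩, ⟨0, 1⟩, ⟨1, 0⟩; ⟨0, 1⟩, ⟨1, 1⟩, ⟨1, 0⟩; ⟨1, 0⟩, ⟨1, 0⟩, ⟨1, 0⟩]]

/-- The other coset. -/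
def qx : Fin 4 → M3 :=
  ![!![⟨0, 1⟩, ⟨1, 1⟩, ⟨0, 1⟩; ⟨1, 1⟩, ⟨0, 1⟩, ⟨0, 1⟩; ⟨1, 1⟩, ⟨1, 1⟩, ⟨1, 0⟩],
    !![⟨1, 1⟩, ⟨0, 1⟩, ⟨1, 1⟩; ⟨0, 1⟩, ⟨1, 1⟩, ⟨1, 1⟩; ⟨0, 1⟩, ⟨0, 1⟩, ⟨1, 0⟩],
    !![⟨1, 1⟩, ⟨0, 1⟩, ⟨0, 1⟩; ⟨0, 1⟩, ⟨1, 1⟩, ⟨0, 1⟩; ⟨1, 1⟩, ⟨1, 1⟩, ⟨1, 0⟩],
    !![⟨0, 1⟩, ⟨1, 1⟩, ⟨1, 1⟩; ⟨1, 1⟩, ⟨0, 1⟩, ⟨1, 1⟩; ⟨0, 1⟩, ⟨0, 1⟩, ⟨1, 0⟩]]

/-- Monomial matrices. -/
def nm : Fin 3 → Fin 3 → M3 :=
  ![![!![⟨1, 0⟩, ⟨0, 0⟩, ⟨0, 0⟩; ⟨0, 0⟩, ⟨1, 0⟩, ⟨0, 0⟩; ⟨0, 0⟩, ⟨0, 0⟩, ⟨1, 0⟩],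
      !![⟨0, 0⟩, ⟨0, 0⟩, ⟨1, 0⟩; ⟨1, 0⟩, ⟨0, 0⟩, ⟨0, 0⟩; ⟨0, 0⟩, ⟨1, 0⟩, ⟨0, 0⟩],
      !![⟨0, 0⟩, ⟨1, 0⟩, ⟨0, 0⟩; ⟨0, 0⟩, ⟨0, 0⟩, ⟨1, 0⟩; ⟨1, 0⟩, ⟨0, 0⟩, ⟨0, 0⟩]],
    ![!![⟨1, 0⟩, ⟨0, 0⟩, ⟨0, 0⟩; ⟨0, 0⟩, ⟨0, 1⟩, ⟨0, 0⟩; ⟨0, 0⟩, ⟨0, 0⟩, ⟨1, 1⟩],
      !![⟨0, 0⟩, ⟨0, 0⟩, ⟨1, 0⟩; ⟨0, 1⟩, ⟨0, 0⟩, ⟨0, 0⟩; ⟨0, 0⟩, ⟨1, 1⟩, ⟨0, 0⟩],
      !![⟨0, 0⟩, ⟨1, 0⟩, ⟨0, 0⟩; ⟨0, 0⟩, ⟨0, 0⟩, ⟨0, 1⟩; ⟨1, 1⟩, ⟨0, 0⟩, ⟨0, 0⟩]],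
    ![!![⟨1, 0⟩, ⟨0, 0⟩, ⟨0, 0⟩; ⟨0, 0⟩, ⟨1, 1⟩, ⟨0, 0⟩; ⟨0, 0⟩, ⟨0, 0⟩, ⟨0, 1⟩],
      !![⟨0, 0⟩, ⟨0, 0⟩, ⟨1, 0⟩; ⟨1, 1⟩, ⟨0, 0⟩, ⟨0, 0⟩; ⟨0, 0⟩, ⟨0, 1⟩, ⟨0, 0⟩],
      !![⟨0, 0⟩, ⟨1, 0⟩, ⟨0, 0⟩; ⟨0, 0⟩, ⟨0, 0⟩, ⟨1, 1⟩; ⟨0, 1⟩, ⟨0, 0⟩, ⟨0, 0⟩]]]

/-- Matrices of a quaternion subgroup. -/
def qm : QuaternionGroup 2 → M3
  | .a i => qa i
  | .xa i => qx i

theorem hGF4 : Fintype.card GF4 = 2 ^ 2 := card_GF4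

theorem qm_mem : ∀ x, (qm x).det = 1 ∧ (qm x)ᵀ * (qm x).map (fun t => t * t) = 1 := by
  simp only [det_fin_three]
  decide +kernel

theorem nm_mem : ∀ i j, (nm i j).det = 1 ∧ (nm i j)ᵀ * (nm i j).map (fun t => t * t) = 1 := by
  simp only [det_fin_three]
  decide +kernel

theorem qm_mul : ∀ x y, qm (x * y) = qm x * qm y := by decide +kernel

theorem nm_mul : ∀ i j k l : Fin 3, ∃ c : GF4, nm i j * nm k l = c • nm (i + k) (j + l) := by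
  decide +kernel

theorem nm_qm : ∀ (i j : Fin 3) (x : QuaternionGroup 2) (c : GF4), qm x = c • nm i j →
    i = 0 ∧ j = 0 ∧ x = 1 := by
  decide +kernel

theorem qm_nm : ∀ (x : QuaternionGroup 2) (i j : Fin 3), ∃ (k l : Fin 3) (c : GF4),
    qm x * nm i j = c • (nm k l * qm x) := by
  decide +kernel

theorem pres_of {M : M3} (h : Mᵀ * M.map (fun t => t * t) = 1) (u v : Fin 3 → GF4) :
    hermForm 3 GF4 2 (M *ᵥ u) (M *ᵥ v) = hermForm 3 GF4 2 u v := by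
  refine (pres_iff hGF4 M).2 ?_ u v
  rw [← h]
  congr 2
  funext t
  exact pow_two t

/-- The quaternion subgroup of `SU₃(2)`. -/
def qSU : QuaternionGroup 2 →* SU 3 GF4 2 :=
  MonoidHom.mk' (fun x => mkSU (qm x) (qm_mem x).1 (pres_of (qm_mem x).2))
    fun x y => Subtype.ext (Subtype.ext (qm_mul x y))

/-- The quaternion subgroup of `PSU₃(2)`. -/
def qP : QuaternionGroup 2 →* PSU 3 GF4 2 := (QuotientGroup.mk' _).comp qSU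

/-- Representatives of the normal subgroup of order nine. -/
def nSU (i j : Fin 3) : SU 3 GF4 2 := mkSU (nm i j) (nm_mem i j).1 (pres_of (nm_mem i j).2)

/-- The normal subgroup of order nine of `PSU₃(2)`. -/
def nP : Multiplicative (Fin 3 × Fin 3) →* PSU 3 GF4 2 :=
  MonoidHom.mk' (fun p => QuotientGroup.mk (nSU p.toAdd.1 p.toAdd.2)) fun p p' => by
    rw [← QuotientGroup.mk_mul, psu_mk_eq_mk_iff hGF4 (by norm_num)]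
    exact nm_mul _ _ _ _

theorem eq_one_of_nP_eq_qP {p : Multiplicative (Fin 3 × Fin 3)} {x : QuaternionGroup 2}
    (h : nP p = qP x) : p = 1 ∧ x = 1 := by
  obtain ⟨c, hc⟩ := (psu_mk_eq_mk_iff hGF4 (by norm_num) _ _).1 h
  obtain ⟨h1, h2, h3⟩ := nm_qm _ _ _ c hc
  exact ⟨Prod.ext h1 h2, h3⟩

theorem nP_injective : Function.Injective nP :=
  (injective_iff_map_eq_one nP).2 fun _ h => (eq_one_of_nP_eq_qP (h.trans (map_one qP).symm)).1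

theorem qP_mul_nP (x : QuaternionGroup 2) (p : Multiplicative (Fin 3 × Fin 3)) :
    ∃ p', qP x * nP p = nP p' * qP x := by
  obtain ⟨k, l, c, h⟩ := qm_nm x p.toAdd.1 p.toAdd.2
  refine ⟨Multiplicative.ofAdd (k, l), Eq.symm ?_⟩
  exact (psu_mk_eq_mk_iff hGF4 (by norm_num) (nSU k l * qSU x)
    (qSU x * nSU p.toAdd.1 p.toAdd.2)).2 ⟨c, h⟩

theorem card_PSU32 : Nat.card (PSU 3 GF4 2) = 72 := by
  have := card_PSU (n := 3) hGF4 (by norm_num)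
  simp [Finset.prod_range_succ] at this
  omega

theorem exists_eq_nP_mul_qP (g : PSU 3 GF4 2) : ∃ p x, g = nP p * qP x := by
  have : Finite (PSU 3 GF4 2) := Nat.finite_of_card_ne_zero (by rw [card_PSU32]; norm_num)
  have hb : Function.Bijective fun y : Multiplicative (Fin 3 × Fin 3) × QuaternionGroup 2 =>
      nP y.1 * qP y.2 := by
    refine (Nat.bijective_iff_injective_and_card _).2 ⟨?_, ?_⟩
    · rintro ⟨p, x⟩ ⟨p', x'⟩ h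
      have h' : nP p * qP x = nP p' * qP x' := h
      have := eq_one_of_nP_eq_qP (p := p'⁻¹ * p) (x := x' * x⁻¹) (by
        rw [map_mul, map_mul, map_inv, map_inv, inv_mul_eq_iff_eq_mul, ← mul_assoc, ← h',
          mul_inv_cancel_right])
      exact Prod.ext (inv_mul_eq_one.1 this.1).symm (mul_inv_eq_one.1 this.2).symm
    · rw [card_PSU32, Nat.card_eq_fintype_card, Fintype.card_prod, QuaternionGroup.card]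
      simp
  obtain ⟨⟨p, x⟩, h⟩ := hb.2 g
  exact ⟨p, x, h.symm⟩

theorem normal_range_nP : nP.range.Normal := by
  refine ⟨?_⟩
  rintro _ ⟨p, rfl⟩ g
  obtain ⟨p', x, rfl⟩ := exists_eq_nP_mul_qP g
  obtain ⟨p'', h⟩ := qP_mul_nP x p
  refine ⟨p' * p'' * p'⁻¹, ?_⟩
  rw [mul_assoc (nP p'), h, map_mul, map_mul, map_inv]
  group

theorem structure_PSU32 : ∃ (N : Subgroup (PSU 3 GF4 2)) (_ : N.Normal), Nat.card N = 9 ∧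
    (∀ x ∈ N, x ^ 3 = 1) ∧ IsMulCommutative N ∧
    Nonempty (PSU 3 GF4 2 ⧸ N ≃* QuaternionGroup 2) := by
  have := normal_range_nP
  refine ⟨nP.range, this, ?_, ?_, ?_, ⟨(MulEquiv.ofBijective
    ((QuotientGroup.mk' nP.range).comp qP) ⟨?_, ?_⟩).symm⟩⟩
  · rw [← Nat.card_congr (MonoidHom.ofInjective nP_injective).toEquiv]
    simp
  · rintro _ ⟨p, rfl⟩
    rw [← map_pow, show p ^ 3 = 1 by revert p; decide, map_one]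
  · refine ⟨⟨?_⟩⟩
    rintro ⟨_, p, rfl⟩ ⟨_, p', rfl⟩
    refine Subtype.ext ?_
    change nP p * nP p' = nP p' * nP p
    rw [← map_mul, ← map_mul, mul_comm]
  · refine (injective_iff_map_eq_one _).2 fun x hx => ?_
    obtain ⟨p, hp⟩ := (QuotientGroup.eq_one_iff _).1 hx
    exact (eq_one_of_nP_eq_qP hp).2
  · intro g
    obtain ⟨g, rfl⟩ := QuotientGroup.mk_surjective g
    obtain ⟨p, x, rfl⟩ := exists_eq_nP_mul_qP g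
    refine ⟨x, ?_⟩
    rw [QuotientGroup.mk_mul, (QuotientGroup.eq_one_iff (N := nP.range) (nP p)).2 ⟨p, rfl⟩,
      one_mul]
    rfl

end SU32

variable {F : Type*} [Field F] [Fintype F]

theorem card_PSU_three_two (hF : Fintype.card F = 4) : Nat.card (PSU 3 F 2) = 72 := by
  have e : F ≃+* GF4 := FiniteField.ringEquivOfCardEq (hF.trans card_GF4.symm)
  rw [Nat.card_congr (psuMapEquiv e).toEquiv, SU32.card_PSU32]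

/-- `PSU₃(2) = 3² : Q₈`. -/
theorem structure_PSU_three_two (hF : Fintype.card F = 4) :
    ∃ (N : Subgroup (PSU 3 F 2)) (_ : N.Normal), Nat.card N = 9 ∧
    (∀ x ∈ N, x ^ 3 = 1) ∧ IsMulCommutative N ∧
    Nonempty (PSU 3 F 2 ⧸ N ≃* QuaternionGroup 2) := by
  have e : GF4 ≃+* F := FiniteField.ringEquivOfCardEq (card_GF4.trans hF.symm)
  obtain ⟨N, hN, h1, h2, h3, ⟨f⟩⟩ := SU32.structure_PSU32
  let φ := psuMapEquiv (n := 3) (q := 2) e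
  have hN' : (N.map (φ : PSU 3 GF4 2 →* PSU 3 F 2)).Normal := hN.map _ φ.surjective
  refine ⟨N.map (φ : PSU 3 GF4 2 →* PSU 3 F 2), hN', ?_, ?_, Subgroup.map_isMulCommutative _ _,
    ⟨(QuotientGroup.congr N _ φ rfl).symm.trans f⟩⟩
  · rw [Subgroup.card_map_of_injective (f := (φ : PSU 3 GF4 2 →* PSU 3 F 2)) φ.injective, h1]
  · rintro _ ⟨x, hx, rfl⟩
    rw [← map_pow, h2 x hx, map_one]

theorem isSolvable_PSU_three_two (hF : Fintype.card F = 4) : Group.IsSolvable (PSU 3 F 2) := by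
  obtain ⟨N, hN, -, -, h3, ⟨f⟩⟩ := structure_PSU_three_two hF
  have h1 : Group.IsSolvable N := Group.isSolvable_of_comm fun a b => h3.is_comm.comm a b
  have h2 : IsPGroup 2 (QuaternionGroup 2) := IsPGroup.of_card (n := 3) (by
    rw [Nat.card_eq_fintype_card, QuaternionGroup.card]; norm_num)
  have := h2.isNilpotent
  have h4 : Group.IsSolvable (PSU 3 F 2 ⧸ N) :=
    Group.isSolvable_of_isSolvable_injective (f := f.toMonoidHom) f.injective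
  exact Group.isSolvable_of_ker_le_range N.subtype (QuotientGroup.mk' N) (by simp)

end CfsgLib.Unitary
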